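import Cfsg.Agent.LY.Col
import Cfsg.Agent.B84C.A
import Cfsg.Agent.TT.Basic

/-! # Groups with a Sylow four-group and an abelian involution centralizer -/

set_option autoImplicit false
set_option linter.unusedSectionVars false

namespace Cfsg.Agent.B84H

open Cfsg Cfsg.Agent.GT Cfsg.Agent.Char Cfsg.Agent.BS Cfsg.Agent.LY Subgroup
open scoped Classical

universe u

variable {G : Type u} [Group G] {t u g x s : G}

/-- A four-group whose involutions are permuted by `g`. -/
structure Q3 (t u g : G) : Prop where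
  tt : t * t = 1
  t1 : t ≠ 1
  tu : Commute t u
  g1 : g * t * g⁻¹ = u
  g2 : g * u * g⁻¹ = t * u

namespace Q3

variable (h : Q3 t u g)
include h

theorem uu : u * u = 1 := by rw [← h.g1, conj_mul, h.tt, mul_one, mul_inv_cancel]
theorem u1 : u ≠ 1 := fun e => h.t1 (conj_eq_one_iff.1 (h.g1.trans e))
theorem v1 : t * u ≠ 1 := fun e => h.u1 (conj_eq_one_iff.1 (h.g2.trans e))
theorem ne : u ≠ t := fun e => h.v1 (by rw [e, h.tt])
theorem vv : t * u * (t * u) = 1 := by rw [← h.g2, conj_mul, h.uu, mul_one, mul_inv_cancel]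
theorem g3 : g * (t * u) * g⁻¹ = t := by
  rw [← conj_mul, h.g1, h.g2, h.tu.eq, ← mul_assoc, h.uu, one_mul]
theorem cu : IsConj t u := isConj_iff.2 ⟨g, h.g1⟩
theorem cv : IsConj t (t * u) := h.cu.trans (isConj_iff.2 ⟨g, h.g2⟩)

/-- the parametrization of the four-group -/
noncomputable def ψ : Multiplicative (Fin 2) × Multiplicative (Fin 2) →* G :=
  (cyc t (by rw [sq, h.tt])).noncommCoprod (cyc u (by rw [sq, h.uu])) fun _ _ => h.tu.pow_pow _ _

theorem mem_U : x ∈ h.ψ.range ↔ x = 1 ∨ x = t ∨ x = u ∨ x = t * u := by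
  simp only [MonoidHom.mem_range, Prod.exists, Multiplicative.exists, Fin.exists_fin_two]
  simp [ψ, cyc, eq_comm (a := x)]
  tauto

theorem card_U : Nat.card h.ψ.range = 4 := by
  have e : (h.ψ.range : Set G) = {1, t, u, t * u} := Set.ext fun v => by simpa using h.mem_U
  have := h.t1; have := h.u1; have := h.v1; have := h.ne.symm
  rw [← SetLike.coe_sort_coe, e, Nat.card_coe_set_eq, Set.ncard_insert_of_notMem (by simp [eq_comm, *]),
    Set.ncard_insert_of_notMem (by simp [*]), Set.ncard_pair (by simp [*])]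

theorem deg [Fintype G] {χ : G → ℂ} (hχ : IsCharacter G χ) {f a : ℤ} (hf : χ 1 = f) (ha : χ t = a) :
    4 ∣ f + 3 * a := by
  obtain ⟨n, hn⟩ := lin_nat h.ψ 1 hχ
  have e1 := hχ.isClassFunction.eq_of_isConj h.cu
  have e2 := hχ.isClassFunction.eq_of_isConj h.cv
  rw [Fintype.sum_prod_type] at hn
  simp only [← Multiplicative.ofAdd.sum_comp, Fin.sum_univ_two] at hn
  simp [ψ, cyc, ← e1, ← e2, hf, ha] at hn
  exact ⟨n, by exact_mod_cast (by linear_combination hn : (f + 3 * a : ℂ) = 4 * n)⟩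

end Q3

/-- In addition the centralizer of `t` is abelian with Sylow subgroup the four-group. -/
structure Q4 (t u g : G) : Prop extends Q3 t u g where
  ab : ∀ x y, Commute x t → Commute y t → Commute x y
  two : ∀ x, Commute x t → ∀ k, x ^ 2 ^ k = 1 → x = 1 ∨ x = t ∨ x = u ∨ x = t * u

theorem arith {x y z : ℤ} {n : ℕ} (hx : 4 ∣ x - 1) (hy : 4 ∣ y - 1) (hz : 4 ∣ z - 1) (hs : 1 + (x + (y + z)) = 0)
    (n0 : 0 < n) (h3 : 3 ∣ n) (e : (1 : ℚ) + (1 / x + (1 / y + 1 / z)) = 8 / n) : n = 3 ∨ n = 15 := by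
  have k : ∀ {x : ℤ}, 4 ∣ x - 1 → (-1 / 3 : ℚ) ≤ 1 / x ∧ (0 < x → (0 : ℚ) < 1 / x) := fun {x} hx => by
    refine ⟨?_, fun p => by positivity⟩
    rcases show 0 < x ∨ x ≤ -3 by omega with p | p
    · exact le_trans (by norm_num) (show (0 : ℚ) ≤ 1 / x by positivity)
    · have : (x : ℚ) ≤ -3 := by exact_mod_cast p
      rw [le_div_iff_of_neg (by linarith)]; linarith
  have n1 : (0 : ℚ) < n := by exact_mod_cast n0
  have l : (1 / 3 : ℚ) < 8 / n := by
    rcases show 0 < x ∨ 0 < y ∨ 0 < z by omega with p | p | p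
    · linarith [(k hx).2 p, (k hy).1, (k hz).1]
    · linarith [(k hy).2 p, (k hx).1, (k hz).1]
    · linarith [(k hz).2 p, (k hy).1, (k hx).1]
  rw [lt_div_iff₀ n1] at l
  have l' : n < 24 := by exact_mod_cast (by linarith : (n : ℚ) < 24)
  obtain ⟨a, ha⟩ := hx
  obtain ⟨b, hb⟩ := hy
  obtain rfl : x = 4 * a + 1 := by omega
  obtain rfl : y = 4 * b + 1 := by omega
  obtain rfl : z = 4 * (-1 - a - b) + 1 := by omega
  have x0 : ∀ c : ℤ, ((4 * c + 1 : ℤ) : ℚ) ≠ 0 := fun c => by exact_mod_cast (by omega : 4 * c + 1 ≠ 0)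
  have e' : (n : ℤ) * ((2 * a + 1) * (2 * b + 1) * (2 * (-1 - a - b) + 1)) =
      (4 * a + 1) * (4 * b + 1) * (4 * (-1 - a - b) + 1) := by
    have := x0 a; have := x0 b; have := x0 (-1 - a - b)
    field_simp at e
    push_cast at e
    exact_mod_cast (by linear_combination e / 8 : (n : ℚ) * ((2 * a + 1) * (2 * b + 1) * (2 * (-1 - a - b) + 1)) =
      (4 * a + 1) * (4 * b + 1) * (4 * (-1 - a - b) + 1))
  have e4 := congrArg (Int.cast : ℤ → ZMod 4) e'
  push_cast at e4
  have := (show ∀ n a b : ZMod 4, n * ((2 * a + 1) * (2 * b + 1) * (2 * (-1 - a - b) + 1)) =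
    (4 * a + 1) * (4 * b + 1) * (4 * (-1 - a - b) + 1) → n = (3 : ℕ) by decide) _ _ _ e4
  rw [ZMod.natCast_eq_natCast_iff'] at this
  omega

namespace Q4

variable (h : Q4 t u g)
include h

theorem c_u (e : Commute x u) : Commute x t := by
  have a : Commute (g⁻¹ * x * g) t := (TT.commute_conj_iff g).1 (by rw [h.g1]; simpa [mul_assoc] using e)
  have := (TT.commute_conj_iff g).2 (h.ab _ _ a ((Commute.refl t).mul_left h.tu.symm))
  rw [h.g3] at this
  simpa [mul_assoc] using this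

theorem c_v (e : Commute x (t * u)) : Commute x t := by
  have a : Commute (g⁻¹ * x * g) u := (TT.commute_conj_iff g).1 (by rw [h.g2]; simpa [mul_assoc] using e)
  have := (TT.commute_conj_iff g).2 (h.c_u a)
  rw [h.g1] at this
  exact h.c_u (by simpa [mul_assoc] using this)

theorem inv (e : s * s = 1) (c : Commute s t) : s = 1 ∨ s = t ∨ s = u ∨ s = t * u :=
  h.two s c 1 (by rw [pow_one, sq, e])

variable [Finite G]

theorem even (e : s * s = 1) (e1 : s ≠ 1) (o : ¬ Odd (orderOf (s * t))) : s = u ∨ s = t * u := by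
  obtain ⟨k, -, o2, c1, c2⟩ := central_of_even e h.tt (Nat.not_odd_iff_even.1 o)
  have c : Commute s t := by
    rcases h.inv (mul_self_of_orderOf o2) c2 with n | n | n | n
    · exact absurd n (ne_one_of_orderOf_two o2)
    · exact (n ▸ c1 : t * s = s * t).symm
    · exact h.c_u (n ▸ c1 : u * s = s * u).symm
    · exact h.c_v (n ▸ c1 : t * u * s = s * (t * u)).symm
  rcases h.inv e c with n | n | n
  · exact absurd n e1
  · rw [n, h.tt] at o; simp at o
  · exact n

theorem conj (e : s * s = 1) (e1 : s ≠ 1) : IsConj t s := by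
  by_cases o : Odd (orderOf (s * t))
  · obtain ⟨k, n⟩ := conj_of_odd e h.tt o
    exact isConj_iff.2 ⟨((s * t) ^ k)⁻¹, by rw [inv_inv, ← n]⟩
  · rcases h.even e e1 o with n | n <;> rw [n]
    exacts [h.cu, h.cv]

theorem three : 3 ∣ C1[t].index := by
  have n : g ∈ N[C1[t]] := by
    refine mem_normalizer_fintype fun x hx => mem_cent1.2 (h.c_u ?_)
    rw [← h.g1]
    exact (TT.commute_conj_iff g).2 (mem_cent1.1 hx)
  have p := PG.pow_relIndex_mem' le_rfl n
  have g3 : g ^ 3 ∈ C1[t] := mem_cent1.2 (mul_inv_eq_iff_eq_mul.1 (by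
    rw [show g ^ 3 * t * (g ^ 3)⁻¹ = g * (g * (g * t * g⁻¹) * g⁻¹) * g⁻¹ by rw [pow_three]; group, h.g1, h.g2, h.g3]))
  refine Dvd.dvd.trans (by_contra fun k => h.ne ?_) (relIndex_dvd_index_of_le le_normalizer)
  have : g ∈ C1[t] := by
    generalize C1[t].relIndex N[C1[t]] = r at *
    rw [← Nat.div_add_mod r 3, pow_add, pow_mul, mul_mem_cancel_left (pow_mem g3 _)] at p
    rcases show r % 3 = 1 ∨ r % 3 = 2 by omega with e | e <;> rw [e] at p
    · rwa [pow_one] at p
    · rwa [pow_succ, mul_mem_cancel_left p] at g3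
  rw [← h.g1, mem_cent1.1 this, mul_inv_cancel_right]

end Q4

theorem pi2 [Finite G] (e : s * s = 1) : PiNat {2} (orderOf s) :=
  (piNat_single_pow Nat.prime_two 1).of_dvd (orderOf_dvd_of_pow_eq_one (by rw [pow_one, sq, e]))

theorem Q4.nil [Fintype G] (h : Q4 t u g) : Nil t 4 := by
  have le : h.ψ.range ≤ C1[t] := fun x hx => by
    rcases h.mem_U.1 hx with e | e | e | e <;> refine mem_cent1.2 (e ▸ ?_)
    exacts [Commute.one_left t, rfl, h.tu.symm, (Commute.refl t).mul_left h.tu.symm]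
  rw [← h.card_U]
  refine nil_of_burnside (pi2 h.tt) (syl_of_maximal Nat.prime_two (IsPGroup.of_card (n := 2) h.card_U) le
    fun Q q1 q2 q3 => le_antisymm (fun x hx => ?_) q2) fun x hx y hy => (h.ab y x (mem_cent1.1 (le hy)) (mem_cent1.1 hx.1)).eq
  obtain ⟨k, hk⟩ := q1 ⟨x, hx⟩
  exact h.mem_U.2 (h.two x (mem_cent1.1 (q3 hx)) k (congrArg Subtype.val hk))

/-- The number of involutions is `3` or `15`. -/
theorem Q4.bsw [Finite G] (h : Q4 t u g) : C1[t].index = 3 ∨ C1[t].index = 15 := by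
  have := Fintype.ofFinite G
  have N := h.nil
  have ti : t⁻¹ = t := inv_eq_of_mul_eq_one_right h.tt
  have c2 : ∀ {s : G}, s * s = 1 → constt {2} s = s := fun e => constt_of_piNat (pi2 e)
  choose! a ha using fun θ (hθ : θ ∈ B0 G) => B84C.int_inv (B0_irr hθ).virt h.tt
  choose! f hf using fun θ (hθ : θ ∈ B0 G) => (B0_irr hθ).virt.exists_int_one
  have F : ∀ y, ∑ θ ∈ B0 G, θ t * θ y = if IsConj t (constt {2} y) then 4 else 0 := fun y => by
    split_ifs with e
    · rw [Finset.sum_congr rfl fun θ hθ => by rw [N.cst θ hθ y e]]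
      simpa [ti] using N.val
    · simpa [ti] using sum_B0_eq_zero (x := t) (y := y) (by rwa [c2 h.tt])
  have s1 := zsum (φ := fun θ => a θ ^ 2) (m := 4) (k := 1) (fun θ hθ => by rw [ha θ hθ]; push_cast; ring)
    ((F t).trans (by rw [c2 h.tt, if_pos (IsConj.refl t)]; simp)) (by simp)
  have s2 := zsum (φ := fun θ => a θ * f θ) (m := 0) (k := 1) (fun θ hθ => by rw [ha θ hθ, hf θ hθ]; push_cast; ring)
    ((F 1).trans (by simp [constt_one, h.t1])) (by simp)
  have s3 := qsum (φ := fun θ => a θ ^ 3 / f θ) (m := 8 / C1[t].index) (k := 1)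
    (fun θ hθ => by rw [ha θ hθ, hf θ hθ]; push_cast; ring) ((recip t t t).trans ?_) (by simp)
  swap
  · have e : ∀ x : G, (if IsConj t (constt {2} (x * t * x⁻¹ * t)) then (4 : ℂ) else 0) =
        4 * ((if x⁻¹⁻¹ * t * x⁻¹ = u then 1 else 0) + if x⁻¹⁻¹ * t * x⁻¹ = t * u then 1 else 0) := fun x => by
      rw [inv_inv]
      by_cases e1 : x * t * x⁻¹ = u
      · rw [e1, ← h.tu.eq, c2 h.vv, if_pos h.cv]; simp [h.t1]
      by_cases e2 : x * t * x⁻¹ = t * u
      · rw [e2, h.tu.eq, mul_assoc, h.tt, mul_one, c2 h.uu, if_pos h.cu]; simp [h.t1]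
      rw [if_neg, if_neg e1, if_neg e2]; · simp
      intro k
      refine (h.even (by rw [conj_mul, h.tt, mul_one, mul_inv_cancel]) (by simpa using h.t1) fun o => h.t1 ?_).elim e1 e2
      rwa [constt_of_piNat_compl (piNat_two_compl.2 o), isConj_one_left] at k
    have c : ∀ s, IsConj t s → ∑ x : G, (if x⁻¹⁻¹ * t * x⁻¹ = s then (1 : ℂ) else 0) = Nat.card C1[t] := fun s hs => by
      rw [← card_conj_eq_of_isConj hs, natCard_subtype_eq_sum_ite _ ℂ]
      exact Fintype.sum_equiv (Equiv.inv G) _ _ fun x => rfl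
    simp only [F, e, ← Finset.mul_sum, Finset.sum_add_distrib, c _ h.cu, c _ h.cv, ← C1[t].index_mul_card]
    have : (Nat.card C1[t] : ℂ) ≠ 0 := card_ne_zero_complex _
    have : (C1[t].index : ℂ) ≠ 0 := Nat.cast_ne_zero.2 index_ne_zero_of_finite
    push_cast; field_simp; norm_num
  set S := (B1 G).filter (a · ≠ 0)
  have z : ∀ {R : Type} [AddCommMonoid R] (φ : (G → ℂ) → R), (∀ θ, a θ = 0 → φ θ = 0) →
      ∑ θ ∈ B1 G, φ θ = ∑ θ ∈ S, φ θ := fun φ k =>
    (Finset.sum_filter_of_ne (p := (a · ≠ 0)) fun θ _ n e => n (k θ e)).symm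
  rw [z _ fun θ e => by simp [e]] at s1 s2 s3
  have a1 : ∀ θ ∈ S, a θ ^ 2 = 1 := fun θ hθ => by
    have l := Finset.single_le_sum (f := fun θ => a θ ^ 2) (fun _ _ => sq_nonneg _) hθ
    have n := (Finset.mem_filter.1 hθ).2
    have : a θ < 2 := by nlinarith
    have : -2 < a θ := by nlinarith
    rcases show a θ = 1 ∨ a θ = -1 by omega with e | e <;> simp [e]
  have d : ∀ θ ∈ S, 4 ∣ a θ * f θ - 1 ∧ (a θ ^ 3 / f θ : ℚ) = 1 / (a θ * f θ : ℤ) := fun θ hθ => by
    have m := (mem_B1.1 (Finset.mem_filter.1 hθ).1).2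
    have := h.deg (B0_irr m).isCharacter (hf θ m) (ha θ m)
    rcases sq_eq_one_iff.1 (a1 θ hθ) with e | e <;> rw [e] at this ⊢ <;> refine ⟨by omega, ?_⟩ <;> push_cast <;> ring
  rw [Finset.sum_congr rfl a1, Finset.sum_const, nsmul_eq_mul, mul_one] at s1
  obtain ⟨x, y, w, n1, n2, n3, e⟩ := Finset.card_eq_three.1 (show S.card = 3 by omega)
  rw [Finset.sum_congr rfl fun θ hθ => (d θ hθ).2] at s3
  rw [e, Finset.sum_insert (by simp [n1, n2]), Finset.sum_pair n3] at s2 s3
  rw [e] at d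
  exact arith (d x (by simp)).1 (d y (by simp)).1 (d w (by simp)).1 s2 (Nat.pos_of_ne_zero index_ne_zero_of_finite)
    h.three s3

end Cfsg.Agent.B84H
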