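import Cfsg.Agent.B84H.A
import Cfsg.Agent.B84.Four

/-! # The centralizer of a cyclic group commuting with a four-group and its normalizer -/

set_option autoImplicit false
set_option linter.unusedSectionVars false

namespace Cfsg.Agent.B84H

open Cfsg Cfsg.Agent.GT Cfsg.Agent.BS Subgroup

variable {G : Type*} [Group G] {t u g w v a b x : G} {M : Subgroup G}

theorem zp_uniq [Finite G] {r : ℕ} (r0 : 0 < r) (ha : a ∈ zpowers v) (hb : b ∈ zpowers v) (oa : orderOf a = r)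
    (ob : orderOf b = r) : a ∈ zpowers b := by
  obtain ⟨k, hk⟩ := oa ▸ orderOf_dvd_of_mem_zpowers ha
  have : ∀ {a : G}, a ∈ zpowers v → orderOf a = r → zpowers a = zpowers (v ^ k) := fun {a} ha oa => by
    obtain ⟨i, rfl⟩ : ∃ i : ℕ, v ^ i = a := mem_powers_iff_mem_zpowers.2 ha
    have := pow_orderOf_eq_one (v ^ i)
    rw [oa, ← pow_mul, ← orderOf_dvd_iff_pow_eq_one, hk, mul_comm i] at this
    obtain ⟨j, rfl⟩ := Nat.dvd_of_mul_dvd_mul_left r0 this
    refine eq_of_le_of_card_ge (zpowers_le.2 (pow_mul v k j ▸ npow_mem_zpowers _ j)) (le_of_eq ?_)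
    rw [Nat.card_zpowers, Nat.card_zpowers, oa, orderOf_pow_of_dvd (by rintro rfl; exact (orderOf_pos v).ne' hk)
      (Dvd.intro_left _ hk.symm), hk, Nat.mul_div_cancel _ (Nat.pos_of_mul_pos_left (hk ▸ orderOf_pos v))]
  rw [this hb ob, ← this ha oa]
  exact mem_zpowers a

/-- The setting of the last case. -/
structure HS (t u g w v : G) : Prop extends Q3 t u g where
  odd : Odd (orderOf v)
  vt : Commute v t
  vg : Commute v g
  vw : w * v * w⁻¹ = v⁻¹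
  nrm : ∀ a ∈ zpowers v, a ≠ 1 → ∀ x, Commute x t → x * a * x⁻¹ ∈ zpowers v →
    (∃ e ∈ toQ3.ψ.range, ∃ y ∈ zpowers v, x = e * y) ∨ x * a * x⁻¹ = a⁻¹

theorem zc (h : Commute v x) (ha : a ∈ zpowers v) : Commute a x := by
  obtain ⟨k, rfl⟩ := ha
  exact h.zpow_left k

theorem zi (h : x * v * x⁻¹ = v⁻¹) (ha : a ∈ zpowers v) : x * a * x⁻¹ = a⁻¹ := by
  obtain ⟨k, rfl⟩ := ha
  rw [← conj_zpow, h, inv_zpow]

theorem Q3.cU (h : Q3 t u g) (c1 : Commute x t) (c2 : Commute x u) (ha : a ∈ h.ψ.range) : Commute x a := by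
  rcases h.mem_U.1 ha with e | e | e | e <;> rw [e]
  exacts [Commute.one_right x, c1, c2, c1.mul_right c2]

theorem Q3.sqU (h : Q3 t u g) (ha : a ∈ h.ψ.range) : a * a = 1 := by
  rcases h.mem_U.1 ha with e | e | e | e <;> rw [e]
  exacts [one_mul 1, h.tt, h.uu, h.vv]

namespace HS

variable (h : HS t u g w v)
include h

theorem vu : Commute v u := h.g1 ▸ (h.vg.mul_right h.vt).mul_right h.vg.inv_right

theorem vU (ha : a ∈ zpowers v) (hb : b ∈ h.ψ.range) : Commute a b := h.cU (zc h.vt ha) (zc h.vu ha) hb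

theorem oV (ha : a ∈ zpowers v) : Odd (orderOf a) := h.odd.of_dvd_nat (orderOf_dvd_of_mem_zpowers ha)

theorem sq1 (ha : a ∈ zpowers v) (e : a * a = 1) : a = 1 := by
  obtain ⟨k, hk⟩ := h.oV ha
  have := pow_orderOf_eq_one a
  rwa [hk, pow_succ, pow_mul, sq, e, one_pow, one_mul] at this

theorem cT (ha : a ∈ zpowers v) (a1 : a ≠ 1) (c1 : Commute x t) (c2 : Commute x a) :
    ∃ e ∈ h.ψ.range, ∃ y ∈ zpowers v, x = e * y :=
  (h.nrm a ha a1 x c1 (TT.commute_iff_conj.1 c2 ▸ ha :)).resolve_right fun e => a1 (h.sq1 ha (by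
    rw [TT.commute_iff_conj.1 c2] at e; exact mul_eq_one_iff_eq_inv.2 e))

theorem tM (ha : a ∈ zpowers v) : t ∈ C1[a] := mem_cent1.2 (zc h.vt ha).symm
theorem uM (ha : a ∈ zpowers v) : u ∈ C1[a] := mem_cent1.2 (zc h.vu ha).symm
theorem gM (ha : a ∈ zpowers v) : g ∈ C1[a] := mem_cent1.2 (zc h.vg ha).symm

variable [Finite G]

theorem q4 (ha : a ∈ zpowers v) (a1 : a ≠ 1) :
    Q4 (⟨t, h.tM ha⟩ : C1[a]) ⟨u, h.uM ha⟩ ⟨g, h.gM ha⟩ where
  tt := Subtype.ext h.tt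
  t1 e := h.t1 (congrArg Subtype.val e)
  tu := Subtype.ext h.tu
  g1 := Subtype.ext h.g1
  g2 := Subtype.ext h.g2
  ab x y c1 c2 := by
    obtain ⟨e, he, b, hb, n⟩ := h.cT ha a1 (congrArg Subtype.val c1) (mem_cent1.1 x.2)
    obtain ⟨e', he', b', hb', n'⟩ := h.cT ha a1 (congrArg Subtype.val c2) (mem_cent1.1 y.2)
    refine Subtype.ext (show Commute x.1 y.1 from n ▸ n' ▸ ?_)
    exact ((h.cU (h.cU rfl h.tu he).symm (h.cU h.tu.symm rfl he).symm he').mul_right (h.vU hb' he).symm).mul_left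
      ((h.vU hb he').mul_right (zc (zc rfl hb').symm hb))
  two x c k e := by
    obtain ⟨y, hy, b, hb, n⟩ := h.cT ha a1 (congrArg Subtype.val c) (mem_cent1.1 x.2)
    replace e : x.1 ^ 2 ^ (k + 1) = 1 := by rw [pow_succ, pow_mul, ← coe_pow, e]; simp
    rw [n, (h.vU hb hy).symm.mul_pow, pow_succ', pow_mul, sq, h.sqU hy, one_pow, one_mul, ← pow_succ'] at e
    have : b = 1 := orderOf_eq_one_iff.1 ((Nat.Coprime.pow_right _ (Nat.coprime_two_right.2 (h.oV hb))).eq_one_of_dvd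
      (orderOf_dvd_of_pow_eq_one e))
    simpa [Subtype.ext_iff, n, this] using h.mem_U.1 hy

theorem card_T (ha : a ∈ zpowers v) (a1 : a ≠ 1) : Nat.card C1[(⟨t, h.tM ha⟩ : C1[a])] = 4 * orderOf v := by
  have c : h.ψ.range ≤ C[zpowers v] := fun x hx y hy => h.vU hy hx
  have le : h.ψ.range ⊔ zpowers v ≤ C1[a] :=
    sup_le (fun x hx => mem_cent1.2 (h.vU ha hx).symm) fun x hx => mem_cent1.2 (zc (zc rfl ha).symm hx)
  rw [← h.card_U, ← Nat.card_zpowers, ← card_sup_of_inf_eq_bot (.inl (c.trans (cent_le_norm _)))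
    (eq_bot_iff.2 fun x hx => h.sq1 hx.2 (h.sqU hx.1)), ← card_subgroupOf le]
  congr 3
  ext x
  rw [mem_cent1, mem_subgroupOf]
  constructor
  · intro e
    obtain ⟨e, he, b, hb, n⟩ := h.cT ha a1 (congrArg Subtype.val e) (mem_cent1.1 x.2)
    exact n ▸ mul_mem_sup he hb
  · intro e
    exact Subtype.ext (mem_cent1.1 (sup_le (fun x hx => mem_cent1.2 (h.cU rfl h.tu hx).symm)
      (zpowers_le.2 (mem_cent1.2 h.vt)) e))

theorem card_M (ha : a ∈ zpowers v) (a1 : a ≠ 1) :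
    Nat.card C1[a] = 12 * orderOf v ∨ Nat.card C1[a] = 60 * orderOf v := by
  have := C1[(⟨t, h.tM ha⟩ : C1[a])].index_mul_card
  rw [h.card_T ha a1] at this
  rcases (h.q4 ha a1).bsw with e | e <;> rw [e] at this <;> omega

theorem cjM (ha : a ∈ zpowers v) (a1 : a ≠ 1) (e : x * t * x⁻¹ ∈ C1[a]) :
    ∃ c ∈ C1[a], Commute (c⁻¹ * x) t := by
  obtain ⟨c, n⟩ := isConj_iff.1 ((h.q4 ha a1).conj (s := ⟨_, e⟩)
    (Subtype.ext (show _ * _ = 1 by rw [conj_mul, h.tt, mul_one, mul_inv_cancel]))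
    fun k => h.t1 (conj_eq_one_iff.1 (congrArg Subtype.val k)))
  refine ⟨c, c.2, TT.commute_iff_conj.2 ?_⟩
  rw [show c.1⁻¹ * x * t * (c.1⁻¹ * x)⁻¹ = c.1⁻¹ * (x * t * x⁻¹) * c by group,
    ← show c.1 * t * c.1⁻¹ = x * t * x⁻¹ from congrArg Subtype.val n]
  group

theorem fus (ha : a ∈ zpowers v) (a1 : a ≠ 1) (hx : x ∈ N[zpowers a]) : Commute x a ∨ x * a * x⁻¹ = a⁻¹ := by
  have k : ∀ {x}, x ∈ N[zpowers a] → x * a * x⁻¹ ∈ zpowers a := fun hx => conj_mem_of_mem_norm hx (mem_zpowers a)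
  have le := zpowers_le.2 ha
  obtain ⟨c, hc, n⟩ := h.cjM ha a1 (x := x) (mem_cent1.2 ((TT.commute_conj_iff x⁻¹).1 (by
    simpa [mul_assoc] using (zc h.vt (le (k (inv_mem hx)))).symm)))
  have e : c⁻¹ * x * a * (c⁻¹ * x)⁻¹ = x * a * x⁻¹ := by
    rw [show c⁻¹ * x * a * (c⁻¹ * x)⁻¹ = c⁻¹ * (x * a * x⁻¹ * c) by group, (zc (mem_cent1.1 hc).symm (k hx)).eq,
      inv_mul_cancel_left]
  refine (h.nrm a ha a1 _ n (e ▸ le (k hx))).imp (fun ⟨y, hy, b, hb, n⟩ => TT.commute_iff_conj.2 ?_) e.symm.trans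
  rw [← e, n]
  exact TT.commute_iff_conj.1 ((h.vU ha hy).symm.mul_left (zc (zc rfl ha).symm hb))

theorem cen (ha : a ∈ zpowers v) (a1 : a ≠ 1) : C1[a] = C1[v] := by
  have v1 : v ≠ 1 := fun e => a1 (by simpa [e] using ha)
  have le : C1[v] ≤ C1[a] := fun x hx => mem_cent1.2 (zc (mem_cent1.1 hx).symm ha).symm
  have m0 := orderOf_pos v
  have T : ∀ x ∈ C1[a], Commute x t → x ∈ C1[v] := fun x hx c => by
    obtain ⟨e, he, b, hb, n⟩ := h.cT ha a1 c (mem_cent1.1 hx)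
    exact mem_cent1.2 (n ▸ (h.vU (mem_zpowers v) he).symm.mul_left (zc rfl hb) :)
  by_contra ne
  have lt := card_lt_of_lt (lt_of_le_of_ne le (Ne.symm ne))
  have c := card_mul_relIndex le
  obtain ⟨c1, c2⟩ : Nat.card C1[v] = 12 * orderOf v ∧ Nat.card C1[a] = 60 * orderOf v := by
    have := h.card_M ha a1; have := h.card_M (mem_zpowers v) v1; omega
  have i5 : (C1[v].subgroupOf C1[a]).index = 5 := Nat.eq_of_mul_eq_mul_left (by omega : 0 < 12 * orderOf v) (by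
    rw [← c1, ← relIndex, c, c1, c2]; ring)
  set K := (C1[v].subgroupOf C1[a]).normalCore
  have Kle : ∀ x ∈ K, x.1 ∈ C1[v] := fun x hx => mem_subgroupOf.1 (normalCore_le _ hx)
  have d : K.index ∣ 120 := by
    have := card_subgroup_dvd_card (MulAction.toPermHom C1[a] (C1[a] ⧸ C1[v].subgroupOf C1[a])).range
    rwa [← index_ker, ← normalCore_eq_ker, Nat.card_perm, ← index_eq_card, i5] at this
  have Q := h.q4 ha a1
  refine ne (le_antisymm (fun x hx => ?_) le)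
  rcases Nat.even_or_odd (Nat.card K) with o | o
  · obtain ⟨s, hs, o⟩ := exists_mem_orderOf_eq Nat.prime_two (even_iff_two_dvd.1 o)
    obtain ⟨c, n⟩ := isConj_iff.1 (Q.conj (mul_self_of_orderOf o) (ne_one_of_orderOf_two o)).symm
    obtain ⟨c, hc, n⟩ := h.cjM (mem_zpowers v) v1 (x := x) (Kle _ (Normal.conj_mem inferInstance _
      (n ▸ Normal.conj_mem inferInstance _ hs c) ⟨x, hx⟩))
    exact (mul_mem_cancel_left (inv_mem hc)).1 (T _ (mul_mem (inv_mem (le hc)) hx) n)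
  have KV : K ≤ (zpowers v).subgroupOf C1[a] := fun y hy => by
    obtain ⟨c, -, a', -, i, -, e1, e2, -, e3, -, n⟩ := B84.four o Q.tt Q.uu Q.tu (le_normalizer_of_normal (mem_top _))
      (le_normalizer_of_normal (mem_top _)) hy
    obtain ⟨e, he, b, hb, n⟩ := h.cT (x := y.1) ha a1 (congrArg Subtype.val
      (n ▸ (e1.mul_left (Q.c_u e2)).mul_left (Q.c_v e3) :).eq) (mem_cent1.1 y.2)
    refine PG.mem_of_sq_mem_of_odd (B84.odd_of_mem o hy) (mem_subgroupOf.2 ?_)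
    rw [coe_mul, n, mul_assoc, ← mul_assoc b, (h.vU hb he).eq, ← mul_assoc, ← mul_assoc, h.sqU he, one_mul]
    exact mul_mem hb hb
  have cV : Nat.card ((zpowers v).subgroupOf C1[a]) = orderOf v := by
    rw [card_subgroupOf ((zpowers_le.2 (self_mem_cent1 v)).trans le), Nat.card_zpowers]
  obtain ⟨k, hk⟩ := cV ▸ card_dvd_of_le KV
  have ci := K.card_mul_index
  rw [c2, hk, mul_left_comm] at ci
  rw [Nat.eq_of_mul_eq_mul_left Nat.card_pos ci] at d
  have ok : Odd k := (Nat.odd_mul.1 (hk ▸ h.odd)).2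
  obtain rfl : k = 1 := by
    have := Nat.le_of_dvd (by norm_num) d
    obtain ⟨j, rfl⟩ := ok
    omega
  have e := eq_of_le_of_card_ge KV (by rw [cV, hk, mul_one])
  have n : x ∈ N[zpowers v] := mem_normalizer_fintype fun y hy =>
    mem_subgroupOf.1 (KV (Normal.conj_mem inferInstance ⟨y, le (zpowers_le.2 (self_mem_cent1 v) hy)⟩
      (e ▸ mem_subgroupOf.2 hy) ⟨x, hx⟩))
  refine mem_cent1.2 ((h.fus (mem_zpowers v) v1 n).resolve_right fun k => a1 (h.sq1 ha ?_))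
  exact mul_eq_one_iff_eq_inv.2 ((TT.commute_iff_conj.1 (mem_cent1.1 hx)).symm.trans (zi k ha))

/-- The transfer character. -/
theorem lam (hm : ¬ orderOf v ∣ 15) : ∃ a ∈ zpowers v, a ≠ 1 ∧ ∃ l : C1[v] →* ℂˣ,
    (∀ y, l y ≠ 1 → a ∈ zpowers y.1) ∧ l ⟨v, self_mem_cent1 v⟩ ^ 2 ≠ 1 ∧
    ∀ y y' : C1[v], y'.1 = w * y * w⁻¹ → l y' = (l y)⁻¹ := by
  have v1 : v ≠ 1 := fun e => hm (by simp [e])
  have le := zpowers_le.2 (self_mem_cent1 v)
  set V := (zpowers v).subgroupOf C1[v]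
  have key : ∀ (y : C1[v]) (k : ℕ) (c : C1[v]), c⁻¹ * y ^ k * c ∈ V → c⁻¹ * y ^ k * c = y ^ k := fun y k c e => by
    have : Commute (c⁻¹ * y ^ k * c) c := Subtype.ext (zc (mem_cent1.1 c.2).symm (mem_subgroupOf.1 e))
    rw [← mul_left_inj c, this.eq]; group
  have mV := fun y => MonoidHom.transfer_eq_pow_aux y (key y)
  have iV := V.card_mul_index
  rw [card_subgroupOf le, Nat.card_zpowers] at iV
  have d : V.index ∣ 4 * 15 := by
    rcases h.card_M (mem_zpowers v) v1 with e | e <;> rw [e, mul_comm] at iV <;>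
      rw [Nat.eq_of_mul_eq_mul_right (orderOf_pos v) iV]
    norm_num
  obtain ⟨r, hr, d1⟩ := Nat.exists_prime_and_dvd (n := orderOf (v ^ V.index)) fun e => hm
    ((Nat.Coprime.pow_right 2 (Nat.coprime_two_right.2 h.odd)).dvd_of_dvd_mul_left
      ((orderOf_dvd_of_pow_eq_one (orderOf_eq_one_iff.1 e)).trans d))
  obtain ⟨j, k, d2, e⟩ := Nat.exists_eq_pow_mul_and_not_dvd (orderOf_pos v).ne' r hr.ne_one
  obtain ⟨a, ha, oa⟩ := exists_mem_orderOf_eq (H := zpowers v) hr (by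
    rw [Nat.card_zpowers]; exact d1.trans (orderOf_pow_dvd _))
  let z : zpowers v := ⟨v ^ V.index, npow_mem_zpowers v _⟩
  obtain ⟨μ, hμ⟩ := IsCyclic.exists_apply_ne_one (G' := ℂˣ) (G := zpowers v) ⟨_, (Complex.isPrimitiveRoot_exp _
    Nat.card_pos.ne').isUnit_unit' Nat.card_pos.ne'⟩ (a := (z ^ k) ^ 2) fun n =>
      d2 (d1.trans (orderOf_dvd_of_pow_eq_one (h.sq1 (z ^ k).2 (by rw [← sq]; exact congrArg Subtype.val n))))
  have L : ∀ y, MonoidHom.transfer ((μ.comp (subgroupOfEquivOfLe le).toMonoidHom) ^ k) y =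
      μ (⟨y.1 ^ V.index, mV y⟩ ^ k) := fun y => by rw [MonoidHom.transfer_eq_pow _ y (key y), map_pow]; rfl
  refine ⟨a, ha, fun n => hr.ne_one (by rw [← oa, n, orderOf_one]), MonoidHom.transfer _, fun y n => ?_,
    by rw [L, ← map_pow]; exact hμ, fun y y' n => ?_⟩
  · have n1 : (y.1 ^ V.index) ^ k ≠ 1 := fun e => n (by rw [L, ← map_one μ]; exact congrArg μ (Subtype.ext e))
    have m : (y.1 ^ V.index) ^ k ∈ zpowers v := pow_mem (mV y) k
    have o : orderOf ((y.1 ^ V.index) ^ k) ∣ r ^ j := orderOf_dvd_of_pow_eq_one (by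
      rw [← pow_mul, mul_comm, ← e]; exact orderOf_dvd_iff_pow_eq_one.1 (orderOf_dvd_of_mem_zpowers (mV y)))
    obtain ⟨b, hb, ob⟩ := exists_mem_orderOf_eq (H := zpowers ((y.1 ^ V.index) ^ k)) hr (by
      rw [Nat.card_zpowers]
      obtain ⟨i, -, e⟩ := (Nat.dvd_prime_pow hr).1 o
      exact e ▸ dvd_pow_self r (by rintro rfl; exact n1 (orderOf_eq_one_iff.1 e)))
    exact zpowers_le.2 (zpowers_le.2 (pow_mem (npow_mem_zpowers _ _) k) hb)
      (zp_uniq hr.pos ha (zpowers_le.2 m hb) oa ob)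
  · rw [L, L, ← map_inv, ← inv_pow]
    congr 2
    exact Subtype.ext (show y'.1 ^ V.index = _ by rw [n, conj_pow]; exact zi h.vw (mV y))

end HS

end Cfsg.Agent.B84H
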