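import Cfsg.Agent.B84H.E
import Cfsg.Agent.B84C.E
import Cfsg.Agent.B84V.R

/-! # The four results of the character theory -/

set_option autoImplicit false

namespace Cfsg.Agent.B84H

open Cfsg Cfsg.Agent.GT Cfsg.Agent.B84 Subgroup

variable {F G : Type*} [Field F] [Fintype F] [Group G] [Finite G] {φ : GL (Fin 2) F →* G} {g : G}

theorem cC1 (h : Hy φ g) : C1[φ (dg (-1) (-1))].index <
    3 * Fintype.card F ^ 2 * (Fintype.card F ^ 2 - Fintype.card F + 1) := by
  have := Fintype.ofFinite G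
  rcases Nat.odd_mod_four_iff.1 (Nat.odd_iff.1 h.odd) with q | q
  exacts [B84C.C1_one h q, B84V.C1_three h q]

theorem cC2 (h : Hy φ g) (hq : Fintype.card F = 3) (h3 : 3 ∣ C1[φ (dg (-1) (-1))].index)
    (h9 : ¬9 ∣ C1[φ (dg (-1) (-1))].index) : C1[φ (dg (-1) (-1))].index = 165 := B84V.C2_three h hq h3 h9

theorem cC3 (h : Hy φ g) (hq : Fintype.card F = 5) : 25 ∣ C1[φ (dg (-1) (-1))].index :=
  have := Fintype.ofFinite G
  B84C.C3 h hq

theorem cC4 (h : Hy φ g) (hD : D1 φ g) : ringChar F ∣ C1[φ (dg (-1) (-1))].index := by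
  have := Fintype.ofFinite G
  rcases Nat.odd_mod_four_iff.1 (Nat.odd_iff.1 h.odd) with q | q
  · exact B84C.C4_one h q
  by_cases c : ∀ a b, Odd (orderOf (φ (dg a b))) → Commute g (φ (dg a b))
  · exact hard h q hD c
  push Not at c
  obtain ⟨a, b, o, n⟩ := c
  obtain ⟨l, m, hm, hl, hk, k⟩ := B84V.exists_regular h hD o n
  exact B84C.regular_dvd h hm hl hk (k _ (by simp)) (k _ (by simp)) (k _ (by simp)) (k _ (by simp))

end Cfsg.Agent.B84H
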